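import Groth.Agent.L12.DefTLib.GlobalFun
import Groth.Agent.L01.NormalDomain
import Groth.Prelude.Def_Pi1
import Mathlib.RingTheory.Ideal.AssociatedPrime.Finiteness
import Mathlib.RingTheory.Localization.AtPrime.Basic
import Mathlib.RingTheory.Artinian.Ring
import Mathlib.Tactic

/-! Functions extend across closed sets of codimension two on flat deformations of normal rings. -/

set_option autoImplicit false
set_option backward.isDefEq.respectTransparency false
set_option backward.isDefEq.respectTransparency.types false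

universe u

open CategoryTheory AlgebraicGeometry TopologicalSpace Opposite

noncomputable section

namespace Groth.L12.DefTLib

open IsLocalRing

/-- Associated primes of a normal ring have height zero. -/
theorem height_eq_zero_of_mem_associatedPrimes {R : Type u} [CommRing R] [IsNoetherianRing R] {P : Ideal R}
    [P.IsPrime] [IsDomain (Localization.AtPrime P)] (hP : P ∈ associatedPrimes R R) : P.height = 0 := by
  obtain ⟨-, c, hc⟩ := isAssociatedPrime_iff.mp hP
  have hmem : ∀ s, s ∈ P ↔ s * c = 0 := fun s => by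
    rw [hc, Submodule.mem_colon_singleton, Submodule.mem_bot]; rfl
  let S := Localization.AtPrime P
  have hc0 : algebraMap R S c ≠ 0 := fun h => by
    obtain ⟨⟨s, hs⟩, hsc⟩ := (IsLocalization.map_eq_zero_iff P.primeCompl S c).mp h
    exact hs ((hmem s).mpr hsc)
  have hbot : maximalIdeal S = ⊥ := by
    rw [← Localization.AtPrime.map_eq_maximalIdeal, eq_bot_iff, Ideal.map_le_iff_le_comap]
    intro s hs
    have h := congrArg (algebraMap R S) ((hmem s).mp hs)
    rw [map_mul, map_zero] at h
    exact (mul_eq_zero.mp h).resolve_right hc0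
  have h := IsLocalization.AtPrime.ringKrullDim_eq_height P S
  rw [ringKrullDim_eq_zero_of_isField (IsLocalRing.isField_iff_maximalIdeal_eq.mpr hbot)] at h
  exact_mod_cast h.symm

/-- Associated primes of a principal ideal in a normal ring have height at most one. -/
theorem height_le_one_of_mem_associatedPrimes {R : Type u} [CommRing R] [IsNoetherianRing R] {P : Ideal R}
    [P.IsPrime] [IsDomain (Localization.AtPrime P)] [IsIntegrallyClosed (Localization.AtPrime P)] {b : R}
    (hb : ∀ a, b * a = 0 → a = 0) (hP : P ∈ associatedPrimes R (R ⧸ Ideal.span {b})) : P.height ≤ 1 := by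
  obtain ⟨-, x, hx⟩ := isAssociatedPrime_iff.mp hP
  obtain ⟨c, rfl⟩ := Ideal.Quotient.mk_surjective x
  have hmem : ∀ s, s ∈ P ↔ s * c ∈ Ideal.span {b} := fun s => by
    rw [hx, Submodule.mem_colon_singleton, Submodule.mem_bot, ← Ideal.Quotient.eq_zero_iff_mem]
    rfl
  let S := Localization.AtPrime P
  have : IsDiscreteValuationRing S := by
    refine Groth.L01.isDVR_of_maximalIdeal_mul_le (b := algebraMap R S b) (c := algebraMap R S c)
      (fun h => ?_) (fun hc => ?_) (fun t ht => ?_)
    · obtain ⟨⟨s, hs⟩, hsb⟩ := (IsLocalization.map_eq_zero_iff P.primeCompl S b).mp h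
      have hs0 : s = 0 := hb s (by rw [mul_comm]; exact hsb)
      exact hs (by rw [hs0]; exact P.zero_mem)
    · rw [← Set.image_singleton, ← Ideal.map_span] at hc
      obtain ⟨s, hs, hsc⟩ := (IsLocalization.algebraMap_mem_map_algebraMap_iff P.primeCompl S _ _).mp hc
      exact hs ((hmem s).mpr hsc)
    · rw [← Localization.AtPrime.map_eq_maximalIdeal] at ht
      rw [← Set.image_singleton, ← Ideal.map_span]
      have h : (P.map (algebraMap R S)) * Ideal.span {algebraMap R S c} ≤
          (Ideal.span {b}).map (algebraMap R S) := by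
        rw [← Set.image_singleton, ← Ideal.map_span, ← Ideal.map_mul]
        refine Ideal.map_mono (Ideal.mul_le.mpr fun r hr y hy => ?_)
        obtain ⟨z, rfl⟩ := Ideal.mem_span_singleton'.mp hy
        rw [mul_left_comm]
        exact Ideal.mul_mem_left _ z ((hmem r).mp hr)
      exact h (Ideal.mul_mem_mul ht (Ideal.mem_span_singleton_self _))
  have h := IsLocalization.AtPrime.ringKrullDim_eq_height P S
  rw [IsPrincipalIdealRing.ringKrullDim_eq_one _ (IsDiscreteValuationRing.not_isField _)] at h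
  exact le_of_eq (by exact_mod_cast h.symm)

/-- Heights do not drop modulo a nilpotent ideal. -/
theorem height_comap_le {R : Type u} [CommRing R] (N : Ideal R) (hN : N ≤ nilradical R) (P : Ideal (R ⧸ N))
    [P.IsPrime] : (P.comap (Ideal.Quotient.mk N)).height ≤ P.height := by
  have hker : ∀ p : PrimeSpectrum R, RingHom.ker (Ideal.Quotient.mk N) ≤ p.asIdeal := fun p => by
    rw [Ideal.mk_ker]; exact hN.trans (nilradical_le_prime _)
  let f : PrimeSpectrum R → PrimeSpectrum (R ⧸ N) := fun p =>
    ⟨p.asIdeal.map (Ideal.Quotient.mk N), Ideal.map_isPrime_of_surjective Ideal.Quotient.mk_surjective (hker p)⟩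
  have hc : ∀ p, (f p).asIdeal.comap (Ideal.Quotient.mk N) = p.asIdeal := fun p => by
    rw [Ideal.comap_map_of_surjective' _ Ideal.Quotient.mk_surjective, sup_eq_left]; exact hker p
  have hf : StrictMono f := fun p q h => by
    refine lt_of_le_of_ne (Ideal.map_mono h.le) fun he => h.ne (PrimeSpectrum.ext ?_)
    rw [← hc p, ← hc q, he]
  let p : PrimeSpectrum R := ⟨P.comap (Ideal.Quotient.mk N), inferInstance⟩
  have hfp : f p = ⟨P, inferInstance⟩ :=
    PrimeSpectrum.ext (Ideal.map_comap_of_surjective _ Ideal.Quotient.mk_surjective P)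
  have h := Order.height_le_height_apply_of_strictMono f hf p
  rw [hfp, ← PrimeSpectrum.height_eq_orderHeight, ← PrimeSpectrum.height_eq_orderHeight] at h
  exact h

variable {C A : Type u} [CommRing C] [IsLocalRing C] [IsArtinianRing C] [CommRing A]
  [Algebra C A] [Module.Flat C A]

/-- Regularity lifts along flat Artinian deformations. -/
theorem mem_sup_of_mul_mem (K : Ideal A) (y : A)
    (hK : ∀ (J : Ideal C) (t : C) (d : A), algebraMap C A t * d ∈ J.map (algebraMap C A) ⊔ K →
      ∃ e ∈ K, algebraMap C A t * d - algebraMap C A t * e ∈ J.map (algebraMap C A))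
    (hy : ∀ a, y * a ∈ (maximalIdeal C).map (algebraMap C A) ⊔ K → a ∈ (maximalIdeal C).map (algebraMap C A) ⊔ K) :
    ∀ (J : Ideal C) (a : A), y * a ∈ J.map (algebraMap C A) ⊔ K → a ∈ J.map (algebraMap C A) ⊔ K := by
  intro J
  induction J using WellFoundedGT.induction with
  | _ J ih =>
    intro a ha
    by_cases hJ : J = ⊤
    · rw [hJ, Ideal.map_top, top_sup_eq]; trivial
    classical
    have hnil : ∃ n, maximalIdeal C ^ n ≤ J := by
      obtain ⟨n, hn⟩ := IsArtinianRing.isNilpotent_jacobson_bot (R := C)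
      rw [IsLocalRing.jacobson_eq_maximalIdeal ⊥ bot_ne_top] at hn
      exact ⟨n, by rw [hn]; exact bot_le⟩
    obtain ⟨t, ht, htJ⟩ : ∃ t, (∀ c ∈ maximalIdeal C, c * t ∈ J) ∧ t ∉ J := by
      have hspec := Nat.find_spec hnil
      cases hn : Nat.find hnil with
      | zero =>
        rw [hn, pow_zero, Ideal.one_eq_top, top_le_iff] at hspec
        exact absurd hspec hJ
      | succ n =>
        obtain ⟨t, htm, htJ⟩ := SetLike.not_le_iff_exists.mp (Nat.find_min hnil (m := n) (by omega))
        refine ⟨t, fun c hc => ?_, htJ⟩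
        rw [hn, pow_succ'] at hspec
        exact hspec (Ideal.mul_mem_mul hc htm)
    have hlt : J < J ⊔ Ideal.span {t} := lt_of_le_of_ne le_sup_left fun h => htJ (by
      rw [h]; exact Ideal.mem_sup_right (Ideal.mem_span_singleton_self t))
    have h1 := ih _ hlt a (sup_le_sup_right (Ideal.map_mono le_sup_left) K ha)
    rw [Ideal.map_sup, Ideal.map_span, Set.image_singleton, sup_right_comm, Submodule.mem_sup] at h1
    obtain ⟨r, hr, s, hs, rfl⟩ := h1
    obtain ⟨b, rfl⟩ := Ideal.mem_span_singleton'.mp hs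
    have h2 : algebraMap C A t * (y * b) ∈ J.map (algebraMap C A) ⊔ K := by
      have := Ideal.sub_mem _ ha (Ideal.mul_mem_left _ y hr)
      rw [← mul_sub, add_sub_cancel_left] at this
      convert this using 1
      ring
    obtain ⟨e, he, h3⟩ := hK J t _ h2
    rw [← mul_sub] at h3
    have hcan : ∀ c, c * t ∈ J → c ∈ maximalIdeal C := fun c hc => by
      by_contra hcm
      obtain ⟨u, rfl⟩ := IsLocalRing.notMem_maximalIdeal.mp hcm
      have := J.mul_mem_left (↑u⁻¹ : C) hc
      rw [← mul_assoc, Units.inv_mul, one_mul] at this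
      exact htJ this
    have h4 := flat_cancel' J (maximalIdeal C) t hcan _ h3
    have h5 : b ∈ (maximalIdeal C).map (algebraMap C A) ⊔ K := hy b (Submodule.mem_sup.mpr
      ⟨_, h4, e, he, sub_add_cancel _ _⟩)
    refine Ideal.add_mem _ hr ?_
    obtain ⟨m, hm, q, hq, rfl⟩ := Submodule.mem_sup.mp h5
    rw [add_mul]
    refine Ideal.add_mem _ (Ideal.mem_sup_left ?_) (Ideal.mem_sup_right (K.mul_mem_right _ hq))
    have hle : (maximalIdeal C).map (algebraMap C A) * Ideal.span {algebraMap C A t} ≤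
        J.map (algebraMap C A) := by
      rw [← Set.image_singleton, ← Ideal.map_span, ← Ideal.map_mul]
      refine Ideal.map_mono (Ideal.mul_le.mpr fun c hc z hz => ?_)
      obtain ⟨w, rfl⟩ := Ideal.mem_span_singleton'.mp hz
      rw [mul_left_comm]
      exact J.mul_mem_left w (ht c hc)
    exact hle (Ideal.mul_mem_mul hm (Ideal.mem_span_singleton_self _))

/-- A regular sequence of length two in an ideal of codimension two. -/
theorem exists_regular_pair [IsNoetherianRing A]
    (hnorm : ∀ P : Ideal (A ⧸ (maximalIdeal C).map (algebraMap C A)), ∀ _ : P.IsPrime,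
      IsDomain (Localization.AtPrime P) ∧ IsIntegrallyClosed (Localization.AtPrime P))
    (I : Ideal A) (hI : ∀ p : Ideal A, p.IsPrime → I ≤ p → 2 ≤ p.height) :
    ∃ x ∈ I, ∃ y ∈ I, (∀ a, x * a = 0 → a = 0) ∧ ∀ a, y * a ∈ Ideal.span {x} → a ∈ Ideal.span {x} := by
  let M := (maximalIdeal C).map (algebraMap C A)
  let A0 := A ⧸ M
  let φ : A →+* A0 := Ideal.Quotient.mk M
  have hM : M ≤ nilradical A := by
    refine Ideal.map_le_iff_le_comap.mpr fun c hc => ?_
    obtain ⟨n, hn⟩ := IsArtinianRing.isNilpotent_jacobson_bot (R := C)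
    rw [IsLocalRing.jacobson_eq_maximalIdeal ⊥ bot_ne_top] at hn
    refine mem_nilradical.mpr ⟨n, ?_⟩
    have := Ideal.pow_mem_pow hc n
    rw [hn, Ideal.zero_eq_bot, Ideal.mem_bot] at this
    rw [← map_pow, this, map_zero]
  have avoid : ∀ (S : Set (Ideal A0)), S.Finite → (∀ P ∈ S, P.IsPrime ∧ P.height ≤ 1) →
      ∃ z ∈ I, ∀ P ∈ S, φ z ∉ P := by
    intro S hS hP
    by_contra! h
    have hsub : (I : Set A) ⊆ ⋃ P ∈ (hS.toFinset : Set (Ideal A0)), (P.comap φ : Set A) := fun z hz => by
      obtain ⟨P, hPS, hzP⟩ := h z hz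
      exact Set.mem_iUnion₂.mpr ⟨P, by simpa using hPS, hzP⟩
    obtain ⟨P, hPS, hle⟩ := (Ideal.subset_union_prime (f := fun P : Ideal A0 => P.comap φ) ⊥ ⊥
      (fun P hPS _ _ => by
        haveI := (hP P (by simpa using hPS)).1
        exact Ideal.IsPrime.comap φ)).mp hsub
    haveI := (hP P (by simpa using hPS)).1
    have h1 := hI (P.comap φ) (Ideal.IsPrime.comap φ) hle
    have h2 := height_comap_le M hM P
    exact absurd ((h1.trans h2).trans (hP P (by simpa using hPS)).2) (by decide)
  obtain ⟨x, hx, hxP⟩ := avoid _ (associatedPrimes.finite A0 A0) fun P hP => ⟨hP.isPrime, by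
    haveI := hP.isPrime
    haveI := (hnorm P hP.isPrime).1
    rw [height_eq_zero_of_mem_associatedPrimes hP]; exact zero_le⟩
  have hx0 : ∀ a : A0, φ x * a = 0 → a = 0 := by
    intro a ha
    by_contra hne
    have hzd : φ x ∈ ⋃ P ∈ associatedPrimes A0 A0, (P : Set A0) := by
      rw [biUnion_associatedPrimes_eq_zero_divisors]
      exact ⟨a, hne, ha⟩
    obtain ⟨P, hPA, hP⟩ := Set.mem_iUnion₂.mp hzd
    exact hxP P hPA hP
  obtain ⟨y, hy, hyP⟩ := avoid _ (associatedPrimes.finite A0 (A0 ⧸ Ideal.span {φ x})) fun P hP => ⟨hP.isPrime, by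
    haveI := hP.isPrime
    haveI := (hnorm P hP.isPrime).1
    haveI := (hnorm P hP.isPrime).2
    exact height_le_one_of_mem_associatedPrimes hx0 hP⟩
  have hy0 : ∀ a : A0, φ y * a ∈ Ideal.span {φ x} → a ∈ Ideal.span {φ x} := by
    intro a ha
    by_contra hne
    have hzd : φ y ∈ ⋃ P ∈ associatedPrimes A0 (A0 ⧸ Ideal.span {φ x}), (P : Set A0) := by
      rw [biUnion_associatedPrimes_eq_zero_divisors]
      refine ⟨Ideal.Quotient.mk _ a, fun h => hne (Ideal.Quotient.eq_zero_iff_mem.mp h), ?_⟩
      exact Ideal.Quotient.eq_zero_iff_mem.mpr ha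
    obtain ⟨P, hPA, hP⟩ := Set.mem_iUnion₂.mp hzd
    exact hyP P hPA hP
  have hxreg : ∀ (J : Ideal C) (a : A), x * a ∈ J.map (algebraMap C A) → a ∈ J.map (algebraMap C A) := by
    intro J a ha
    have h := mem_sup_of_mul_mem (C := C) (⊥ : Ideal A) x (fun J t d hd => ⟨0, Submodule.zero_mem _, by
        simpa using hd⟩) (fun a ha => ?_) J a (by rwa [sup_bot_eq])
    · rwa [sup_bot_eq] at h
    · rw [sup_bot_eq] at ha ⊢
      refine Ideal.Quotient.eq_zero_iff_mem.mp (hx0 (φ a) ?_)
      rw [← map_mul]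
      exact Ideal.Quotient.eq_zero_iff_mem.mpr ha
  refine ⟨x, hx, y, hy, fun a ha => ?_, fun a ha => ?_⟩
  · have := hxreg ⊥ a (by rw [ha]; exact Ideal.zero_mem _)
    rwa [Ideal.map_bot, Ideal.mem_bot] at this
  · have hsup : ∀ a, a ∈ M ⊔ Ideal.span {x} ↔ φ a ∈ Ideal.span {φ x} := by
      intro a
      rw [← Set.image_singleton, ← Ideal.map_span, ← Ideal.mem_comap,
        Ideal.comap_map_of_surjective' _ Ideal.Quotient.mk_surjective, Ideal.mk_ker, sup_comm]
    have h := mem_sup_of_mul_mem (C := C) (Ideal.span {x}) y (fun J t d hd => ?_) (fun a ha => ?_) ⊥ a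
      (by rwa [Ideal.map_bot, bot_sup_eq])
    · rwa [Ideal.map_bot, bot_sup_eq] at h
    · obtain ⟨r, hr, s, hs, hrs⟩ := Submodule.mem_sup.mp hd
      obtain ⟨q, rfl⟩ := Ideal.mem_span_singleton'.mp hs
      have hxq : x * q ∈ (J ⊔ Ideal.span {t}).map (algebraMap C A) := by
        have e : x * q = algebraMap C A t * d - r := by rw [← hrs]; ring
        rw [e, Ideal.map_sup, Ideal.map_span, Set.image_singleton]
        exact Ideal.sub_mem _ (Ideal.mem_sup_right (Ideal.mem_span_singleton'.mpr ⟨d, mul_comm _ _⟩))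
          (Ideal.mem_sup_left hr)
      have hq := hxreg _ q hxq
      rw [Ideal.map_sup, Ideal.map_span, Set.image_singleton, Submodule.mem_sup] at hq
      obtain ⟨r', hr', s', hs', hq'⟩ := hq
      obtain ⟨w, rfl⟩ := Ideal.mem_span_singleton'.mp hs'
      refine ⟨w * x, Ideal.mem_span_singleton'.mpr ⟨w, rfl⟩, ?_⟩
      have e : algebraMap C A t * d - algebraMap C A t * (w * x) = r + r' * x := by
        rw [← hrs, ← hq']; ring
      rw [e]
      exact Ideal.add_mem _ hr (Ideal.mul_mem_right _ _ hr')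
    · rw [hsup, map_mul] at ha
      exact (hsup a).mpr (hy0 _ ha)

/-- Functions defined off two hyperplanes cut out by a regular pair are global. -/
theorem bijective_res_of_regular_pair {R : CommRingCat.{u}} (U : (Spec R).Opens)
    {x y : R} (hx : (PrimeSpectrum.basicOpen x : TopologicalSpace.Opens (PrimeSpectrum R)) ≤ U)
    (hy : (PrimeSpectrum.basicOpen y : TopologicalSpace.Opens (PrimeSpectrum R)) ≤ U)
    (hx0 : ∀ a, x * a = 0 → a = 0) (hy0 : ∀ a, y * a ∈ Ideal.span {x} → a ∈ Ideal.span {x}) :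
    Function.Bijective ((Spec R).presheaf.map (homOfLE (le_top : U ≤ ⊤)).op) := by
  let X := Spec R
  let e := (Scheme.ΓSpecIso R).inv
  let γ : R → Γ(X, U) := fun a => X.presheaf.map (homOfLE (le_top : U ≤ ⊤)).op (e a)
  suffices hγ : Function.Bijective γ from
    (Function.Bijective.of_comp_iff _ (ConcreteCategory.bijective_of_isIso e)).mp hγ
  let Dx : X.Opens := PrimeSpectrum.basicOpen x
  let Dy : X.Opens := PrimeSpectrum.basicOpen y
  let res : ∀ {V W : X.Opens}, W ≤ V → Γ(X, V) → Γ(X, W) := fun {V W} h => X.presheaf.map (homOfLE h).op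
  have hres : ∀ {V W Z : X.Opens} (h : W ≤ V) (h' : Z ≤ W) (s : Γ(X, V)), res h' (res h s) = res (h'.trans h) s :=
    fun {V W Z} h h' s => by
      show (X.presheaf.map _ ≫ X.presheaf.map _) s = _
      rw [← Functor.map_comp]
      rfl
  have hresadd : ∀ {V W : X.Opens} (h : W ≤ V) (s t : Γ(X, V)), res h (s - t) = res h s - res h t :=
    fun h s t => map_sub _ _ _
  let ι : ∀ V : X.Opens, R → Γ(X, V) := fun V a => res (le_top : V ≤ ⊤) (e a)
  have hι : ∀ {V W : X.Opens} (h : W ≤ V) (a : R), res h (ι V a) = ι W a := fun h a => hres _ h _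
  have hloc : ∀ (f : R) (s : Γ(X, PrimeSpectrum.basicOpen f)), ∃ (a : R) (n : ℕ),
      s * ι _ (f ^ n) = ι _ a := by
    intro f s
    obtain ⟨⟨a, ⟨_, n, rfl⟩⟩, h⟩ := IsLocalization.surj (Submonoid.powers f)
      (S := Γ(X, PrimeSpectrum.basicOpen f)) s
    exact ⟨a, n, h⟩
  have hzero : ∀ (f a : R), ι (PrimeSpectrum.basicOpen f) a = 0 → ∃ n : ℕ, f ^ n * a = 0 := by
    intro f a h
    obtain ⟨⟨_, n, rfl⟩, hn⟩ := (IsLocalization.map_eq_zero_iff (Submonoid.powers f)
      Γ(X, PrimeSpectrum.basicOpen f) a).mp h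
    exact ⟨n, hn⟩
  have hunit : ∀ (f : R) (n : ℕ), IsUnit (ι (PrimeSpectrum.basicOpen f) (f ^ n)) := fun f n =>
    IsLocalization.map_units Γ(X, PrimeSpectrum.basicOpen f) (⟨f ^ n, n, rfl⟩ : Submonoid.powers f)
  have hxn : ∀ n a, x ^ n * a = 0 → a = 0 := by
    intro n
    induction n with
    | zero => intro a ha; simpa using ha
    | succ n ih => intro a ha; exact hx0 _ (ih _ (by rwa [pow_succ, mul_assoc] at ha))
  have hsec : ∀ s : Γ(X, U), res hx s = 0 → s = 0 := by
    intro s hs
    refine TopCat.Sheaf.eq_of_locally_eq' X.sheaf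
      (fun g : {g : R // (PrimeSpectrum.basicOpen g : X.Opens) ≤ U} => (PrimeSpectrum.basicOpen g.1 : X.Opens))
      U (fun g => homOfLE g.2) (fun p hp => ?_) s 0 (fun g => ?_)
    · obtain ⟨_, ⟨f, rfl⟩, hpf, hfU⟩ := PrimeSpectrum.isTopologicalBasis_basic_opens.exists_subset_of_mem_open hp U.2
      exact Opens.mem_iSup.mpr ⟨⟨f, hfU⟩, hpf⟩
    · refine Eq.trans ?_ (map_zero _).symm
      obtain ⟨a, n, ha⟩ := hloc g.1 (res g.2 s)
      let W : X.Opens := PrimeSpectrum.basicOpen (g.1 * x)
      have hWg : W ≤ PrimeSpectrum.basicOpen g.1 := PrimeSpectrum.basicOpen_mul_le_left _ _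
      have hWx : W ≤ Dx := PrimeSpectrum.basicOpen_mul_le_right _ _
      have h0 : ι W a = 0 := by
        have := congrArg (res hWg) ha
        rw [hι] at this
        rw [← this]
        have hh : res hWg (res g.2 s) = 0 := by
          rw [hres]
          have := congrArg (res hWx) hs
          rw [hres] at this
          exact this.trans (map_zero _)
        show X.presheaf.map _ (_ * _) = 0
        rw [map_mul]
        exact mul_eq_zero_of_left hh _
      obtain ⟨m, hm⟩ := hzero _ _ h0
      have : g.1 ^ m * a = 0 := hxn m _ (by rw [← hm]; ring)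
      have h1 : ι (PrimeSpectrum.basicOpen g.1) a = 0 := by
        have h2 := congrArg (ι (PrimeSpectrum.basicOpen g.1)) this
        simp only [ι, res, map_mul, map_zero] at h2
        exact (IsUnit.mul_right_eq_zero (hunit g.1 m)).mp h2
      rw [h1] at ha
      exact (IsUnit.mul_left_eq_zero (hunit g.1 n)).mp ha
  refine ⟨fun a b hab => ?_, fun s => ?_⟩
  · have h : ι Dx (a - b) = 0 := by
      have := congrArg (res hx) hab
      rw [hι, hι] at this
      simp only [ι, res, map_sub]
      exact sub_eq_zero.mpr this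
    obtain ⟨n, hn⟩ := hzero _ _ h
    exact sub_eq_zero.mp (hxn n _ hn)
  · obtain ⟨a, n, ha⟩ := hloc x (res hx s)
    obtain ⟨b, m, hb⟩ := hloc y (res hy s)
    let W : X.Opens := PrimeSpectrum.basicOpen (x * y)
    have hWx : W ≤ Dx := PrimeSpectrum.basicOpen_mul_le_left _ _
    have hWy : W ≤ Dy := PrimeSpectrum.basicOpen_mul_le_right _ _
    have hW : ι W (a * y ^ m - b * x ^ n) = 0 := by
      have h1 := congrArg (res hWx) ha
      have h2 := congrArg (res hWy) hb
      rw [hι] at h1 h2
      simp only [res, map_mul] at h1 h2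
      have h1' : res (hWx.trans hx) s * ι W (x ^ n) = ι W a := by
        rw [← h1, ← hres hx hWx, ← hι hWx]
      have h2' : res (hWy.trans hy) s * ι W (y ^ m) = ι W b := by
        rw [← h2, ← hres hy hWy, ← hι hWy]
      simp only [ι, res, map_mul, map_sub] at h1' h2' ⊢
      rw [← h1', ← h2']
      ring
    obtain ⟨N, hN⟩ := hzero _ _ hW
    rw [mul_pow, mul_assoc] at hN
    have hN' := hxn N _ hN
    have hyk : ∀ (k : ℕ) (c : R), y ^ k * c ∈ Ideal.span {x} → c ∈ Ideal.span {x} := by
      intro k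
      induction k with
      | zero => intro c hc; simpa using hc
      | succ k ih => intro c hc; exact hy0 _ (ih _ (by rwa [pow_succ, mul_assoc] at hc))
    have hdiv : ∀ (j : ℕ) (k : ℕ) (c : R), y ^ k * c ∈ Ideal.span {x ^ j} → c ∈ Ideal.span {x ^ j} := by
      intro j
      induction j with
      | zero => intro k c _; simp
      | succ j ih =>
        intro k c hc
        obtain ⟨q, hq⟩ := Ideal.mem_span_singleton'.mp hc
        obtain ⟨c', rfl⟩ := Ideal.mem_span_singleton'.mp (hyk k c
          (Ideal.mem_span_singleton'.mpr ⟨q * x ^ j, by rw [← hq]; ring⟩))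
        have hz : x * (q * x ^ j - y ^ k * c') = 0 := by linear_combination hq
        obtain ⟨w, rfl⟩ := Ideal.mem_span_singleton'.mp (ih k c'
          (Ideal.mem_span_singleton'.mpr ⟨q, sub_eq_zero.mp (hx0 _ hz)⟩))
        exact Ideal.mem_span_singleton'.mpr ⟨w, by ring⟩
    obtain ⟨r, rfl⟩ := Ideal.mem_span_singleton'.mp (hdiv n (N + m) a
      (Ideal.mem_span_singleton'.mpr ⟨y ^ N * b, by linear_combination -hN'⟩))
    refine ⟨r, (sub_eq_zero.mp (hsec (s - γ r) ?_)).symm⟩
    rw [hresadd, sub_eq_zero, hι]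
    refine (hunit x n).mul_right_cancel ?_
    rw [ha]
    simp only [ι, res, map_mul]

end Groth.L12.DefTLib
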