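import Mathlib.RingTheory.Flat.Basic
import Mathlib.RingTheory.Artinian.Ring
import Mathlib.RingTheory.LocalRing.MaximalIdeal.Basic
import Mathlib.LinearAlgebra.TensorProduct.Tower
import Mathlib.Tactic

/-! Infinitesimal automorphisms of flat extensions of modules. -/

set_option autoImplicit false

universe u

open scoped TensorProduct
open IsLocalRing

noncomputable section

namespace Groth.L12.InfAut

variable {C : Type u} [CommRing C] [IsLocalRing C] (J : Ideal C)
  {A : Type u} [CommRing A] [Algebra C A] {M : Type u} [AddCommGroup M] [Module A M] [Module C M]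
  [IsScalarTower C A M]

/-- `M ⊗ J → M`. -/
def mult : M ⊗[C] J →ₗ[A] M :=
  (TensorProduct.AlgebraTensorModule.rid C A M).toLinearMap ∘ₗ TensorProduct.AlgebraTensorModule.lTensor A M J.subtype

theorem mult_eq (z : M ⊗[C] J) :
    mult J (A := A) z = TensorProduct.rid C M (LinearMap.lTensor M (Submodule.subtype J) z) := by
  induction z using TensorProduct.induction_on with
  | zero => simp
  | tmul m j => simp [mult]
  | add a b ha hb => simp only [map_add, ha, hb]

variable (A M) in
/-- `mM`. -/
abbrev mM : Submodule A M := (maximalIdeal C).map (algebraMap C A) • (⊤ : Submodule A M)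

/-- `M ⊗ J → (M/mM) ⊗ J`. -/
def red : M ⊗[C] J →ₗ[A] (M ⧸ mM (C := C) A M) ⊗[C] J :=
  TensorProduct.AlgebraTensorModule.rTensor C J (Submodule.mkQ _)

theorem red_eq (z : M ⊗[C] J) :
    red J z = LinearMap.rTensor (↥J) ((Submodule.mkQ (mM (C := C) A M)).restrictScalars C) z := rfl

theorem range_mult : LinearMap.range (mult J (A := A) (M := M)) = J.map (algebraMap C A) • (⊤ : Submodule A M) := by
  refine le_antisymm ?_ ?_
  · rintro _ ⟨z, rfl⟩
    induction z using TensorProduct.induction_on with
    | zero => rw [map_zero]; exact zero_mem _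
    | tmul m j =>
      have : mult J (A := A) (m ⊗ₜ j) = algebraMap C A j • m := by simp [mult]
      rw [this]
      exact Submodule.smul_mem_smul (Ideal.mem_map_of_mem _ j.2) Submodule.mem_top
    | add a b ha hb => rw [map_add]; exact add_mem ha hb
  · refine Submodule.smul_le.mpr fun r hr m _ => ?_
    induction hr using Submodule.span_induction generalizing m with
    | mem x hx =>
      obtain ⟨j, hj, rfl⟩ := hx
      exact ⟨m ⊗ₜ ⟨j, hj⟩, by simp [mult]⟩
    | zero => rw [zero_smul]; exact zero_mem _
    | add x y _ _ hx hy => rw [add_smul]; exact add_mem (hx m Submodule.mem_top) (hy m Submodule.mem_top)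
    | smul a x _ hx => rw [smul_eq_mul, mul_smul]; exact Submodule.smul_mem _ a (hx m Submodule.mem_top)

variable (hJ : maximalIdeal C * J = ⊥)
include hJ

theorem red_bijective : Function.Bijective (red J (A := A) (M := M)) := by
  have hzero : ∀ x ∈ mM (C := C) A M, ∀ j : J, (x ⊗ₜ[C] j : M ⊗[C] J) = 0 := by
    intro x hx
    refine Submodule.smul_induction_on hx (fun r hr m _ => ?_) (fun a b ha hb j => ?_)
    · induction hr using Submodule.span_induction generalizing m with
      | mem y hy =>
        obtain ⟨c, hc, rfl⟩ := hy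
        intro j
        rw [algebraMap_smul, TensorProduct.smul_tmul]
        have : c • j = 0 := Subtype.ext (by
          have := Ideal.mul_mem_mul hc j.2
          rwa [hJ, Ideal.mem_bot] at this)
        rw [this, TensorProduct.tmul_zero]
      | zero => intro j; rw [zero_smul, TensorProduct.zero_tmul]
      | add y z _ _ hy hz => intro j; rw [add_smul, TensorProduct.add_tmul, hy m Submodule.mem_top j, hz m Submodule.mem_top j, add_zero]
      | smul a y _ hy =>
        intro j
        rw [smul_eq_mul, mul_smul, ← TensorProduct.smul_tmul', hy m Submodule.mem_top j, smul_zero]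
    · rw [TensorProduct.add_tmul, ha j, hb j, add_zero]
  let L : M →ₗ[C] J →ₗ[C] M ⊗[C] J := TensorProduct.mk C M J
  let L' : (M ⧸ mM (C := C) A M) →ₗ[C] J →ₗ[C] M ⊗[C] J :=
    (Submodule.liftQ ((mM (C := C) A M).restrictScalars C) L (fun x hx => LinearMap.ext fun j => hzero x hx j)) ∘ₗ
      (Submodule.Quotient.restrictScalarsEquiv C (mM (C := C) A M)).symm.toLinearMap
  let inv := TensorProduct.lift L'
  have h1 : ∀ z, inv (red J z) = z := fun z => by
    induction z using TensorProduct.induction_on with
    | zero => simp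
    | tmul m j => rfl
    | add a b ha hb => simp only [map_add, ha, hb]
  have h2 : ∀ w, red J (inv w) = w := fun w => by
    induction w using TensorProduct.induction_on with
    | zero => simp
    | tmul m j =>
      obtain ⟨m, rfl⟩ := Submodule.Quotient.mk_surjective _ m
      rfl
    | add a b ha hb => simp only [map_add, ha, hb]
  exact ⟨Function.LeftInverse.injective h1, fun w => ⟨inv w, h2 w⟩⟩

theorem infinitesimal_automorphisms [Module.Flat C M] (hJne : J ≠ ⊤) :
    (∀ σ : M →ₗ[A] M, (∀ x : M, σ x - x ∈ (J.map (algebraMap C A)) • (⊤ : Submodule A M)) →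
      Function.Bijective σ ∧
        ∃! τ : (M ⧸ mM (C := C) A M) →ₗ[A] ((M ⧸ mM (C := C) A M) ⊗[C] ↥J),
          ∀ (x : M) (z : M ⊗[C] ↥J), mult J (A := A) z = σ x - x → red J z = τ (Submodule.mkQ _ x)) ∧
    (∀ τ : (M ⧸ mM (C := C) A M) →ₗ[A] ((M ⧸ mM (C := C) A M) ⊗[C] ↥J),
      ∃ σ : M →ₗ[A] M, (∀ x : M, σ x - x ∈ (J.map (algebraMap C A)) • (⊤ : Submodule A M)) ∧
          ∀ (x : M) (z : M ⊗[C] ↥J), mult J (A := A) z = σ x - x → red J z = τ (Submodule.mkQ _ x)) := by
  have hinj : Function.Injective (mult J (A := A) (M := M)) := by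
    intro a b h
    rw [mult_eq, mult_eq] at h
    exact Module.Flat.lTensor_preserves_injective_linearMap (M := M) J.subtype J.subtype_injective
      ((TensorProduct.rid C M).injective h)
  let E := LinearEquiv.ofInjective (mult J (A := A) (M := M)) hinj
  let Q := LinearEquiv.ofBijective (red J (A := A) (M := M)) (red_bijective J hJ)
  have hmJ : J ≤ maximalIdeal C := IsLocalRing.le_maximalIdeal hJne
  refine ⟨fun σ hσ => ?_, fun τ => ?_⟩
  · have hd : ∀ x ∈ J.map (algebraMap C A) • (⊤ : Submodule A M), σ x = x := by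
      intro x hx
      refine Submodule.smul_induction_on hx (fun r hr m _ => ?_) (fun a b ha hb => by rw [map_add, ha, hb])
      · rw [map_smul, ← sub_eq_zero, ← smul_sub]
        have h2 := Submodule.smul_mem_smul hr (hσ m)
        rw [← Submodule.mul_smul, ← Ideal.map_mul] at h2
        have h3 : J * J = ⊥ := le_bot_iff.mp (hJ ▸ Ideal.mul_mono_left hmJ)
        rw [h3, Ideal.map_bot, Submodule.bot_smul, Submodule.mem_bot] at h2
        exact h2
    refine ⟨⟨fun x y hxy => ?_, fun y => ⟨y - (σ y - y), by rw [map_sub, hd _ (hσ y)]; abel⟩⟩, ?_⟩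
    · have h := hσ (x - y)
      rw [map_sub, hxy, sub_self, zero_sub, neg_mem_iff] at h
      have h2 := hd _ h
      rw [map_sub, hxy, sub_self] at h2
      exact sub_eq_zero.mp h2.symm
    · let d : M →ₗ[A] LinearMap.range (mult J (A := A) (M := M)) :=
        (σ - LinearMap.id).codRestrict _ fun x => by rw [range_mult]; exact hσ x
      let τ' : M →ₗ[A] (M ⧸ mM (C := C) A M) ⊗[C] ↥J := Q.toLinearMap ∘ₗ E.symm.toLinearMap ∘ₗ d
      have hτ' : ∀ (x : M) (z : M ⊗[C] ↥J), mult J (A := A) z = σ x - x → red J z = τ' x := by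
        intro x z hz
        have : d x = E z := Subtype.ext hz.symm
        show red J z = Q (E.symm (d x))
        rw [this, E.symm_apply_apply]
        rfl
      have hker : mM (C := C) A M ≤ LinearMap.ker τ' := by
        intro x hx
        rw [LinearMap.mem_ker]
        refine (hτ' x 0 ?_).symm.trans (map_zero _)
        rw [map_zero]
        refine Submodule.smul_induction_on (p := fun x => (0 : M) = σ x - x) hx (fun r hr m _ => ?_)
          (fun a b ha hb => by rw [map_add, add_sub_add_comm, ← ha, ← hb, add_zero])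
        · rw [map_smul, ← smul_sub]
          have h2 := Submodule.smul_mem_smul hr (hσ m)
          rw [← Submodule.mul_smul, ← Ideal.map_mul, hJ, Ideal.map_bot, Submodule.bot_smul, Submodule.mem_bot] at h2
          exact h2.symm
      refine ⟨(mM (C := C) A M).liftQ τ' hker, fun x z hz => hτ' x z hz, fun τ hτ => ?_⟩
      refine Submodule.linearMap_qext _ (LinearMap.ext fun x => ?_)
      show τ (Submodule.mkQ _ x) = τ' x
      have hx : σ x - x ∈ LinearMap.range (mult J (A := A) (M := M)) := by rw [range_mult]; exact hσ x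
      obtain ⟨z, hz⟩ := hx
      rw [← hτ x z hz, hτ' x z hz]
  · let δ : M →ₗ[A] M := mult J ∘ₗ Q.symm.toLinearMap ∘ₗ τ ∘ₗ Submodule.mkQ _
    refine ⟨LinearMap.id + δ, fun x => ?_, fun x z hz => ?_⟩
    · rw [LinearMap.add_apply, LinearMap.id_apply, add_sub_cancel_left, ← range_mult]
      exact ⟨_, rfl⟩
    · rw [LinearMap.add_apply, LinearMap.id_apply, add_sub_cancel_left] at hz
      have : z = Q.symm (τ (Submodule.mkQ _ x)) := hinj hz
      rw [this]
      exact Q.apply_symm_apply _

end Groth.L12.InfAut
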